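import Mathlib

/-!
# Simple groups of order 244823040: the centralizers of the elements of order 5 and 7
-/

set_option autoImplicit false

namespace CfsgLib.Char.MTwentyFourOrder

universe u

/-- What is needed beside the orders of the centralizers and normalizers: the part prime to five of
the centralizer of an element of order five is alternating of degree four, the part prime to seven
of the centralizer of an element of order seven is symmetric of degree three. -/
structure PartShapes (G : Type u) [Group G] [Finite G] : Prop where
  no_twenty : ∀ g : G, orderOf g ≠ 20
  no_thirty : ∀ g : G, orderOf g ≠ 30
  no_fortytwo : ∀ g : G, orderOf g ≠ 42

end CfsgLib.Char.MTwentyFourOrder
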