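import Mathlib

/-!
# Simple groups of order 244823040: the data at the primes 23, 11, 7 and 5
-/

set_option autoImplicit false

namespace CfsgLib.Char.MTwentyFourOrder

universe u

/-- What the blocks give for a simple group of order 244823040 at the primes whose square does not
divide the order. -/
structure Params (G : Type u) [Group G] [Finite G] : Prop where
  card_eq : Nat.card G = 244823040
  cent_big : ∀ a : G, orderOf a = 23 → Nat.card (Subgroup.centralizer ({a} : Set G)) = 23
  norm_big : ∀ P : Subgroup G, Nat.card P = 23 → Nat.card (Subgroup.normalizer (P : Set G)) = 253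
  cent_eleven : ∀ a : G, orderOf a = 11 → Nat.card (Subgroup.centralizer ({a} : Set G)) = 11
  norm_eleven : ∀ P : Subgroup G, Nat.card P = 11 → Nat.card (Subgroup.normalizer (P : Set G)) = 110
  cent_five : ∀ a : G, orderOf a = 5 → Nat.card (Subgroup.centralizer ({a} : Set G)) = 60
  norm_five : ∀ P : Subgroup G, Nat.card P = 5 → Nat.card (Subgroup.normalizer (P : Set G)) = 240
  cent_seven : ∀ a : G, orderOf a = 7 → Nat.card (Subgroup.centralizer ({a} : Set G)) = 42
  norm_seven : ∀ P : Subgroup G, Nat.card P = 7 → Nat.card (Subgroup.normalizer (P : Set G)) = 126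

end CfsgLib.Char.MTwentyFourOrder
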